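import Groth.Agent.Lib.ProjFormula.Map
import Groth.Agent.Lib.OX.Exact
import Mathlib.Topology.Sheaves.Stalks

/-! # The projection map is an isomorphism for finite locally free modules -/

set_option autoImplicit false
set_option maxHeartbeats 400000
universe u

open CategoryTheory CategoryTheory.Limits MonoidalCategory AlgebraicGeometry Opposite TopologicalSpace

namespace GrothLib.ProjFormula

open GrothLib.OX

section Gen

variable {Z : Scheme.{u}}

/-- A map is an isomorphism on the stalks over an open. -/
def StalkIsoOn {M N : Z.Modules} (g : M ⟶ N) (U : Z.Opens) : Prop :=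
  ∀ y ∈ U, IsIso ((stalk y).map g)

theorem bijective_app_of_stalkIsoOn {M N : Z.Modules} {g : M ⟶ N} {U : Z.Opens} (h : StalkIsoOn g U)
    {W : Z.Opens} (hW : W ≤ U) : Function.Bijective (g.app W) :=
  TopCat.Presheaf.app_bijective_of_stalkFunctor_map_bijective
    (F := (⟨M.presheaf, M.isSheaf⟩ : TopCat.Sheaf Ab.{u} Z)) (G := ⟨N.presheaf, N.isSheaf⟩) ⟨g.mapPresheaf⟩ W
    fun y hy => have := h y (hW hy); ConcreteCategory.bijective_of_isIso ((stalk y).map g)

theorem stalkIsoOn_of_bijective {M N : Z.Modules} {g : M ⟶ N} {U : Z.Opens}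
    (h : ∀ W : Z.Opens, W ≤ U → Function.Bijective (g.app W)) : StalkIsoOn g U := by
  intro y hy
  refine (ConcreteCategory.isIso_iff_bijective _).2 ⟨?_, ?_⟩
  · rw [injective_iff_map_eq_zero]
    intro a ha
    obtain ⟨V, hyV, s, rfl⟩ := germ_exists (DCoh.toP.obj M) a
    have h1 := ((stalkPre_map_germ (DCoh.toP.map g) V hyV s).symm.trans ha).trans
      (map_zero (germ (DCoh.toP.obj N) V hyV)).symm
    obtain ⟨W, hyW, i, j, hij⟩ := TopCat.Presheaf.germ_eq (prs (DCoh.toP.obj N)) y hyV hyV _ _ h1
    let T := W ⊓ U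
    have hT : g.app T (M.presheaf.map (homOfLE (inf_le_left.trans i.le : T ≤ V)).op s) = 0 := by
      have h2 := ConcreteCategory.congr_hom (g.mapPresheaf.naturality (homOfLE (inf_le_left.trans i.le : T ≤ V)).op) s
      refine h2.trans ?_
      have hij' : N.presheaf.map i.op (g.app V s) = 0 := hij.trans (map_zero (N.presheaf.map j.op).hom)
      have h3 := (congrArg (N.presheaf.map (homOfLE (inf_le_left : T ≤ W)).op) hij').trans (map_zero _)
      refine Eq.trans ?_ h3
      show _ = N.presheaf.map _ (N.presheaf.map i.op (g.app V s))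
      rw [← ConcreteCategory.comp_apply, ← Functor.map_comp]
      rfl
    refine (germ_map (DCoh.toP.obj M) (homOfLE (inf_le_left.trans i.le : T ≤ V)) ⟨hyW, hy⟩ s).symm.trans ?_
    have h4 : M.presheaf.map (homOfLE (inf_le_left.trans i.le : T ≤ V)).op s = 0 :=
      (h T inf_le_right).1 (hT.trans (map_zero (g.app T).hom).symm)
    exact (congrArg (germ (DCoh.toP.obj M) T ⟨hyW, hy⟩) h4).trans (map_zero _)
  · intro b
    obtain ⟨V, hyV, t, rfl⟩ := germ_exists (DCoh.toP.obj N) b
    obtain ⟨s, hs⟩ := (h (V ⊓ U) inf_le_right).2 (N.presheaf.map (homOfLE inf_le_left).op t)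
    refine ⟨germ (DCoh.toP.obj M) (V ⊓ U) ⟨hyV, hy⟩ s, ?_⟩
    refine (stalkPre_map_germ (DCoh.toP.map g) (V ⊓ U) ⟨hyV, hy⟩ s).trans ?_
    exact (congrArg (germ (DCoh.toP.obj N) (V ⊓ U) ⟨hyV, hy⟩) hs).trans
      (germ_map (DCoh.toP.obj N) (homOfLE inf_le_left) ⟨hyV, hy⟩ t)

theorem stalkIsoOn_tensor {E E' : Z.Modules} {a : E ⟶ E'} {U : Z.Opens} (h : StalkIsoOn a U) (H : Z.Modules) :
    StalkIsoOn (((DCoh.tensorBi (X := Z)).map a).app H) U := fun y hy => by
  have := h y hy
  have h1 := (tensorRightStalkIso y H).hom.naturality a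
  have : IsIso ((stalk y ⋙ tensorRight ((stalk y).obj H)).map a) := by
    rw [Functor.comp_map]; infer_instance
  exact ((MorphismProperty.isomorphisms _).arrow_mk_iso_iff
    (Arrow.isoMk ((tensorRightStalkIso y H).app E) ((tensorRightStalkIso y H).app E') h1.symm)).2 this

/-- The unit of restriction to an open is an isomorphism over it. -/
theorem stalkIsoOn_unit (U : Z.Opens) (M : Z.Modules) :
    StalkIsoOn ((Scheme.Modules.restrictAdjunction U.ι).unit.app M) U := by
  let η := (Scheme.Modules.restrictAdjunction U.ι).unit.app M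
  have hη : IsIso ((Scheme.Modules.restrictFunctor U.ι).map η) := by
    have h1 := (Scheme.Modules.restrictAdjunction U.ι).left_triangle_components M
    have : IsIso ((Scheme.Modules.restrictFunctor U.ι).map η ≫ (Scheme.Modules.restrictAdjunction U.ι).counit.app
        ((Scheme.Modules.restrictFunctor U.ι).obj M)) := by rw [h1]; infer_instance
    exact IsIso.of_isIso_comp_right _ ((Scheme.Modules.restrictAdjunction U.ι).counit.app
      ((Scheme.Modules.restrictFunctor U.ι).obj M))
  refine stalkIsoOn_of_bijective fun W hW => ?_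
  have hW' : U.ι ''ᵁ (U.ι ⁻¹ᵁ W) = W := by simpa [Scheme.Hom.image_preimage_eq_opensRange_inf] using hW
  rw [← hW']
  exact ConcreteCategory.bijective_of_isIso (((Scheme.Modules.restrictFunctor U.ι).map η).app (U.ι ⁻¹ᵁ W))

end Gen

/-- A natural transformation of additive functors which is an isomorphism on the summands of a finite
biproduct is an isomorphism on it. -/
theorem isIso_app_biproduct {C D : Type*} [Category C] [Category D] [Preadditive C] [Preadditive D]
    {F G : C ⥤ D} [F.Additive] [G.Additive] (θ : F ⟶ G) {n : ℕ} (M : Fin n → C) [HasBiproduct M]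
    (h : ∀ i, IsIso (θ.app (M i))) : IsIso (θ.app (⨁ M)) := by
  refine ⟨∑ i, G.map (biproduct.π M i) ≫ inv (θ.app (M i)) ≫ F.map (biproduct.ι M i), ?_, ?_⟩
  · rw [Preadditive.comp_sum]
    have : ∀ i, θ.app (⨁ M) ≫ G.map (biproduct.π M i) ≫ inv (θ.app (M i)) ≫ F.map (biproduct.ι M i) =
        F.map (biproduct.π M i ≫ biproduct.ι M i) := fun i => by
      rw [← Category.assoc, ← θ.naturality, Category.assoc, IsIso.hom_inv_id_assoc, F.map_comp]
    rw [Finset.sum_congr rfl fun i _ => this i, ← F.map_sum, biproduct.total, F.map_id]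
  · rw [Preadditive.sum_comp]
    have : ∀ i, (G.map (biproduct.π M i) ≫ inv (θ.app (M i)) ≫ F.map (biproduct.ι M i)) ≫ θ.app (⨁ M) =
        G.map (biproduct.π M i ≫ biproduct.ι M i) := fun i => by
      rw [Category.assoc, Category.assoc, θ.naturality, IsIso.inv_hom_id_assoc, G.map_comp]
    rw [Finset.sum_congr rfl fun i _ => this i, ← G.map_sum, biproduct.total, G.map_id]

variable {X Y : Scheme.{u}} (f : X ⟶ Y)

/-- The projection map as a natural transformation in the first variable. -/
noncomputable def projNatLeft (G : X.Modules) :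
    (DCoh.tensorBi (X := Y)).flip.obj ((Scheme.Modules.pushforward f).obj G) ⟶
      Scheme.Modules.pullback f ⋙ (DCoh.tensorBi (X := X)).flip.obj G ⋙ Scheme.Modules.pushforward f where
  app E := projHom f E G
  naturality {_ _} a := projHom_natural f a G

theorem stalkIsoOn_pushPull {E E' : Y.Modules} {a : E ⟶ E'} {U : Y.Opens} (h : StalkIsoOn a U) (G : X.Modules) :
    StalkIsoOn ((Scheme.Modules.pushforward f).map
      (((DCoh.tensorBi (X := X)).map ((Scheme.Modules.pullback f).map a)).app G)) U := by
  have h1 : StalkIsoOn ((Scheme.Modules.pullback f).map a) (f ⁻¹ᵁ U) := fun x hx => by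
    have := h (f x) hx
    have h2 := (pullStalkIso f x).hom.naturality a
    have : IsIso ((stalk (f x) ⋙ ModuleCat.extendScalars (f.stalkMap x).hom).map a) := by
      rw [Functor.comp_map]; infer_instance
    exact ((MorphismProperty.isomorphisms _).arrow_mk_iso_iff
      (Arrow.isoMk ((pullStalkIso f x).app E) ((pullStalkIso f x).app E') h2.symm)).2 this
  exact stalkIsoOn_of_bijective fun W hW =>
    bijective_app_of_stalkIsoOn (stalkIsoOn_tensor h1 G) (f.preimage_mono hW)

/-- Isomorphism of the projection map over an open only depends on the module over that open. -/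
theorem stalkIsoOn_projHom_iff {E E' : Y.Modules} {a : E ⟶ E'} {U : Y.Opens} (h : StalkIsoOn a U) (G : X.Modules) :
    StalkIsoOn (projHom f E G) U ↔ StalkIsoOn (projHom f E' G) U := by
  refine forall₂_congr fun y hy => ?_
  have h1 := stalkIsoOn_tensor h ((Scheme.Modules.pushforward f).obj G) y hy
  have h2 := stalkIsoOn_pushPull f h G y hy
  have e := congrArg (stalk y).map (projHom_natural f a G)
  rw [Functor.map_comp, Functor.map_comp] at e
  constructor
  · intro hE
    have : IsIso ((stalk y).map (((DCoh.tensorBi (X := Y)).map a).app ((Scheme.Modules.pushforward f).obj G)) ≫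
        (stalk y).map (projHom f E' G)) := by rw [e]; infer_instance
    exact IsIso.of_isIso_comp_left ((stalk y).map (((DCoh.tensorBi (X := Y)).map a).app
      ((Scheme.Modules.pushforward f).obj G))) _
  · intro hE'
    have : IsIso ((stalk y).map (projHom f E G) ≫ (stalk y).map ((Scheme.Modules.pushforward f).map
        (((DCoh.tensorBi (X := X)).map ((Scheme.Modules.pullback f).map a)).app G))) := by rw [← e]; infer_instance
    exact IsIso.of_isIso_comp_right _ ((stalk y).map ((Scheme.Modules.pushforward f).map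
        (((DCoh.tensorBi (X := X)).map ((Scheme.Modules.pullback f).map a)).app G)))

theorem isIso_projHom_freeMod (n : ℕ) (G : X.Modules) : IsIso (projHom f (FlatMod.freeMod Y n) G) := by
  let M : Fin n → Y.Modules := fun _ => Coh.structureModule Y
  have : HasFiniteBiproducts Y.Modules := HasFiniteBiproducts.of_hasFiniteCoproducts
  let e : (⨁ M) ≅ FlatMod.freeMod Y n := biproduct.isoCoproduct M
  have := isIso_app_biproduct (projNatLeft f G) M fun _ => isIso_projHom_structureModule f G
  exact (NatTrans.isIso_app_iff_of_iso (projNatLeft f G) e).1 this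

theorem isIso_projHom {E : Y.Modules} (hE : FlatMod.IsFinLocFree E) (G : X.Modules) : IsIso (projHom f E G) := by
  refine (OX.isIso_iff _).2 fun y => ?_
  obtain ⟨U, n, hy, ⟨e⟩⟩ := hE y
  let e' : (FlatMod.freeMod Y n).restrict U.ι ≅ FlatMod.freeMod U.toScheme n :=
    (Scheme.Modules.restrictFunctorIsoPullback U.ι).app _ ≪≫ pullFreeModIso U.ι n
  let adj := Scheme.Modules.restrictAdjunction U.ι
  let a : E ⟶ (Scheme.Modules.pushforward U.ι).obj (FlatMod.freeMod U.toScheme n) :=
    adj.unit.app E ≫ (Scheme.Modules.pushforward U.ι).map e.hom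
  let b : FlatMod.freeMod Y n ⟶ (Scheme.Modules.pushforward U.ι).obj (FlatMod.freeMod U.toScheme n) :=
    adj.unit.app _ ≫ (Scheme.Modules.pushforward U.ι).map e'.hom
  have hc : ∀ {M : Y.Modules} (c : M.restrict U.ι ≅ FlatMod.freeMod U.toScheme n),
      StalkIsoOn (adj.unit.app M ≫ (Scheme.Modules.pushforward U.ι).map c.hom) U := fun {M} c z hz => by
    have := stalkIsoOn_unit U M z hz
    rw [Functor.map_comp]; infer_instance
  have hb : StalkIsoOn (projHom f (FlatMod.freeMod Y n) G) U := fun z _ =>
    have := isIso_projHom_freeMod f n G; inferInstance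
  exact (stalkIsoOn_projHom_iff f (hc e) G).2 ((stalkIsoOn_projHom_iff f (hc e') G).1 hb) y hy

end GrothLib.ProjFormula
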