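import Groth.Agent.Lib.ProjFormula.Iso
import Groth.Agent.Lib.Cohom.ResolutionCompare

/-! # Twists of flasque modules by finite locally free modules -/

set_option autoImplicit false
set_option maxHeartbeats 400000
universe u

open CategoryTheory CategoryTheory.Limits MonoidalCategory AlgebraicGeometry Opposite TopologicalSpace

namespace GrothLib.ProjFormula

open GrothLib.OX
open GrothLib.Cohom (FlRes)
open GrothLib.Cocyc (rs)

variable {X : Scheme.{u}}

/-- Restrictions of sections are surjective. -/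
def Flasque (M : X.Modules) : Prop :=
  ∀ ⦃V W : X.Opens⦄ (h : W ≤ V), Function.Surjective (rs (N := M) h)

theorem Flasque.of_iso {M N : X.Modules} (e : M ≅ N) (hM : Flasque M) : Flasque N := by
  intro V W h t
  obtain ⟨s, hs⟩ := hM h (e.inv.app W t)
  refine ⟨e.hom.app V s, ?_⟩
  rw [← Cocyc.app_rs, hs]
  show (e.inv ≫ e.hom).app W t = t
  rw [e.inv_hom_id]; rfl

theorem Flasque.biproduct {n : ℕ} (M : Fin n → X.Modules) [HasBiproduct M] (hM : ∀ i, Flasque (M i)) :
    Flasque (⨁ M) := by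
  intro V W h t
  choose s hs using fun i => hM i h ((biproduct.π M i).app W t)
  refine ⟨∑ i, (biproduct.ι M i).app V (s i), ?_⟩
  rw [map_sum]
  have h1 : ∀ i, rs h ((biproduct.ι M i).app V (s i)) = (biproduct.π M i ≫ biproduct.ι M i).app W t := fun i => by
    rw [← Cocyc.app_rs, hs]; rfl
  rw [Finset.sum_congr rfl fun i _ => h1 i]
  let φ : ((⨁ M) ⟶ (⨁ M)) →+ Γ(⨁ M, W) :=
    { toFun := fun g => g.app W t, map_zero' := rfl, map_add' := fun _ _ => rfl }
  refine (map_sum φ (fun i => biproduct.π M i ≫ biproduct.ι M i) Finset.univ).symm.trans ?_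
  rw [biproduct.total]
  rfl

/-- Being flasque is local. -/
theorem flasque_of_cover (M : X.Modules) {ι : Type u} (O : ι → X.Opens) (hO : ∀ x : X, ∃ i, x ∈ O i)
    (hM : ∀ (i : ι) {V W : X.Opens} (h : W ≤ V), V ≤ O i → Function.Surjective (rs (N := M) h)) : Flasque M := by
  intro V W h t
  let P := {p : Σ T : X.Opens, Γ(M, T) // ∃ (hW : W ≤ p.1), p.1 ≤ V ∧ rs hW p.2 = t}
  let R : P → P → Prop := fun p q => ∃ hpq : p.1.1 ≤ q.1.1, rs hpq q.1.2 = p.1.2
  have hrefl : ∀ p, R p p := fun p => ⟨le_rfl, Cocyc.rs_self _ _⟩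
  have htrans : ∀ {a b c}, R a b → R b c → R a c := fun {a b c} ⟨h1, e1⟩ ⟨h2, e2⟩ =>
    ⟨h1.trans h2, (Cocyc.rs_rs h2 h1 _).symm.trans ((congrArg (rs h1) e2).trans e1)⟩
  have hne : Nonempty P := ⟨⟨⟨W, t⟩, le_rfl, h, Cocyc.rs_self _ _⟩⟩
  obtain ⟨m, hm⟩ := exists_maximal_of_nonempty_chains_bounded (r := R) (fun c hc hcne => by
      let T : c → X.Opens := fun p => p.1.1.1
      have hcompat : TopCat.Presheaf.IsCompatible M.presheaf T fun p : c => p.1.1.2 := by
        intro p q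
        have hor : R p.1 q.1 ∨ R q.1 p.1 := by
          by_cases hpq : p.1 = q.1
          · exact Or.inl (hpq ▸ hrefl p.1)
          · exact hc p.2 q.2 hpq
        rcases hor with ⟨hle, e⟩ | ⟨hle, e⟩
        · show rs inf_le_left p.1.1.2 = rs inf_le_right q.1.1.2
          rw [← e, Cocyc.rs_rs]
        · show rs inf_le_left p.1.1.2 = rs inf_le_right q.1.1.2
          rw [← e, Cocyc.rs_rs]
      obtain ⟨g, hg, -⟩ := TopCat.Sheaf.existsUnique_gluing' ⟨M.presheaf, M.isSheaf⟩ T (iSup T)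
        (fun p => homOfLE (le_iSup T p)) le_rfl (fun p : c => p.1.1.2) hcompat
      obtain ⟨p₀, hp₀⟩ := hcne
      obtain ⟨hW₀, hV₀, e₀⟩ := p₀.2
      have hgp : ∀ p : c, rs (le_iSup T p) (show Γ(M, iSup T) from g) = p.1.1.2 := hg
      refine ⟨⟨⟨iSup T, g⟩, hW₀.trans (le_iSup T ⟨p₀, hp₀⟩), iSup_le fun p => p.1.2.2.1, ?_⟩,
        fun p hp => ⟨le_iSup T ⟨p, hp⟩, hgp ⟨p, hp⟩⟩⟩
      refine Eq.trans ?_ e₀
      rw [← hgp ⟨p₀, hp₀⟩, Cocyc.rs_rs])
    htrans
  obtain ⟨hWm, hmV, em⟩ := m.2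
  suffices hVm : V ≤ m.1.1 by
    refine ⟨rs hVm m.1.2, ?_⟩
    rw [Cocyc.rs_rs]
    exact em
  intro x hx
  obtain ⟨i, hxi⟩ := hO x
  let T := V ⊓ O i
  obtain ⟨s, hs⟩ := hM i (inf_le_left : T ⊓ m.1.1 ≤ T) inf_le_right (rs inf_le_right m.1.2)
  let U : ULift.{u} Bool → X.Opens := fun b => cond b.down m.1.1 T
  let sec : ∀ b, Γ(M, U b) := fun b => match b with | ⟨true⟩ => m.1.2 | ⟨false⟩ => s
  have hcompat : TopCat.Presheaf.IsCompatible M.presheaf U sec := by
    rintro ⟨a⟩ ⟨b⟩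
    cases a <;> cases b
    · rfl
    · exact hs
    · show rs inf_le_left m.1.2 = rs inf_le_right s
      have := congrArg (rs (inf_comm m.1.1 T).le) hs
      rw [Cocyc.rs_rs, Cocyc.rs_rs] at this
      exact this.symm
    · rfl
  obtain ⟨g, hg, -⟩ := TopCat.Sheaf.existsUnique_gluing' ⟨M.presheaf, M.isSheaf⟩ U (m.1.1 ⊔ T)
    (fun b => homOfLE (match b with | ⟨true⟩ => le_sup_left | ⟨false⟩ => le_sup_right))
    (sup_le (le_iSup U ⟨true⟩) (le_iSup U ⟨false⟩)) sec hcompat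
  let g' : Γ(M, m.1.1 ⊔ T) := g
  have hg' : rs le_sup_left g' = m.1.2 := hg ⟨true⟩
  have hq : rs (hWm.trans le_sup_left) g' = t := by
    rw [← Cocyc.rs_rs le_sup_left hWm, hg', em]
  obtain ⟨hle, -⟩ := hm ⟨⟨m.1.1 ⊔ T, g'⟩, hWm.trans le_sup_left, sup_le hmV inf_le_left, hq⟩ ⟨le_sup_left, hg'⟩
  exact hle (le_sup_right (a := m.1.1) ⟨hx, hxi⟩)

theorem flasque_restrict {U : Scheme.{u}} (j : U ⟶ X) [IsOpenImmersion j] {M : X.Modules} (hM : Flasque M) :
    Flasque (M.restrict j) := fun _ _ h => hM (Scheme.Hom.image_mono j h)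

/-- A finite locally free twist of a flasque module is flasque. -/
theorem flasque_tensor {E : X.Modules} (hE : FlatMod.IsFinLocFree E) {I : X.Modules} (hI : Flasque I) :
    Flasque (((DCoh.tensorBi (X := X)).obj E).obj I) := by
  choose O n hxO e using hE
  refine flasque_of_cover _ O (fun x => ⟨x, hxO x⟩) fun i V W h hV => ?_
  let j := (O i).ι
  let P := Scheme.Modules.restrictFunctorIsoPullback j
  have : HasFiniteBiproducts (O i).toScheme.Modules := HasFiniteBiproducts.of_hasFiniteCoproducts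
  let N : Fin (n i) → (O i).toScheme.Modules := fun _ =>
    ((DCoh.tensorBi (X := (O i).toScheme)).obj (Coh.structureModule _)).obj (I.restrict j)
  have h1 : Flasque (⨁ N) := Flasque.biproduct N fun _ =>
    Flasque.of_iso (tensorUnitLeftIso _).symm (flasque_restrict j hI)
  have : PreservesColimitsOfShape (Discrete (Fin (n i))) ((DCoh.tensorBi (X := (O i).toScheme)).flip.obj (I.restrict j)) :=
    inferInstance
  let iso : (((DCoh.tensorBi (X := X)).obj E).obj I).restrict j ≅ ⨁ N :=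
    P.app _ ≪≫ pullTensorIso j E I ≪≫
      ((DCoh.tensorBi (X := (O i).toScheme)).mapIso ((P.app E).symm ≪≫ (e i).some)).app _ ≪≫
      ((DCoh.tensorBi (X := (O i).toScheme)).obj _).mapIso (P.app I).symm ≪≫
      PreservesCoproduct.iso ((DCoh.tensorBi (X := (O i).toScheme)).flip.obj (I.restrict j)) _ ≪≫
      (biproduct.isoCoproduct N).symm
  have h2 := Flasque.of_iso iso.symm h1
  have eV : j ''ᵁ (j ⁻¹ᵁ V) = V := by simpa [j, Scheme.Hom.image_preimage_eq_opensRange_inf] using hV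
  have eW : j ''ᵁ (j ⁻¹ᵁ W) = W := by simpa [j, Scheme.Hom.image_preimage_eq_opensRange_inf] using h.trans hV
  intro t
  obtain ⟨s, hs⟩ := h2 (j.preimage_mono h) (rs eW.le t)
  refine ⟨rs eV.ge s, ?_⟩
  have hs' : rs (Scheme.Hom.image_mono j (j.preimage_mono h)) (show Γ(((DCoh.tensorBi (X := X)).obj E).obj I,
      j ''ᵁ (j ⁻¹ᵁ V)) from s) = rs eW.le t := hs
  have := congrArg (rs eW.ge) hs'
  rw [Cocyc.rs_rs, Cocyc.rs_rs, Cocyc.rs_self] at this
  rw [Cocyc.rs_rs]
  exact this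

theorem preservesFiniteLimits_tensorBi_obj {E : X.Modules} (hE : FlatMod.IsFlat E) :
    PreservesFiniteLimits ((DCoh.tensorBi (X := X)).obj E) := by
  let T : X.Modules ⥤ X.Modules := (DCoh.tensorBi (X := X)).flip.obj E
  have : PreservesFiniteLimits T := ((T.exact_tfae.out 0 3
    (a := ∀ (S : ShortComplex X.Modules), S.ShortExact → (S.map T).ShortExact)
    (b := PreservesFiniteLimits T ∧ PreservesFiniteColimits T)).1 fun S hS => tensor_map_shortExact hE hS).1
  exact preservesFiniteLimits_of_natIso (tensorBraiding.app E : T ≅ (DCoh.tensorBi (X := X)).obj E)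

end GrothLib.ProjFormula
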