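import Groth.Agent.Lib.OX.PullbackTensor
import Groth.Agent.Lib.OX.LocFreeTensor

/-! # The projection map `E ⊗ f_* G ⟶ f_* (f^* E ⊗ G)` -/

set_option autoImplicit false
set_option maxHeartbeats 400000
universe u

open CategoryTheory CategoryTheory.Limits MonoidalCategory AlgebraicGeometry Opposite TopologicalSpace

namespace GrothLib.ProjFormula

open GrothLib.OX

section Gen

variable {Z : Scheme.{u}}

/-- Maps out of a tensor product are determined on products of sections. -/
theorem hom_ext_tmul {A B T : Z.Modules} {k k' : ((DCoh.tensorBi (X := Z)).obj A).obj B ⟶ T}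
    (h : ∀ (U : Z.Opens) (s : (DCoh.toP.obj A).obj (op U)) (t : (DCoh.toP.obj B).obj (op U)),
      (DCoh.toP.map k).app (op U) (tmulSec A B U s t) = (DCoh.toP.map k').app (op U) (tmulSec A B U s t)) :
    k = k' := by
  let P : CohB1.PMod Z := DCoh.toP.obj A ⊗ DCoh.toP.obj B
  refine ((PresheafOfModules.sheafificationAdjunction (R := Z.ringCatSheaf) (𝟙 Z.ringCatSheaf.obj)).homEquiv
    P T).injective ?_
  refine ((Adjunction.homEquiv_unit _ _ _ _).trans ?_).trans (Adjunction.homEquiv_unit _ _ _ _).symm
  exact PresheafOfModules.hom_ext fun U => ModuleCat.MonoidalCategory.tensor_ext fun s t => h U.unop s t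

theorem map_right_tmulSec (A : Z.Modules) {B B' : Z.Modules} (b : B ⟶ B') (U : Z.Opens)
    (s : (DCoh.toP.obj A).obj (op U)) (t : (DCoh.toP.obj B).obj (op U)) :
    (DCoh.toP.map (((DCoh.tensorBi (X := Z)).obj A).map b)).app (op U) (tmulSec A B U s t) =
      tmulSec A B' U s ((DCoh.toP.map b).app (op U) t) :=
  congrArg (fun k => k.app (op U) (tsec _ _ U s t)) (sheafUnit_natural (DCoh.toP.obj A ◁ DCoh.toP.map b))

theorem map_left_tmulSec {A A' : Z.Modules} (a : A ⟶ A') (B : Z.Modules) (U : Z.Opens)
    (s : (DCoh.toP.obj A).obj (op U)) (t : (DCoh.toP.obj B).obj (op U)) :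
    (DCoh.toP.map (((DCoh.tensorBi (X := Z)).map a).app B)).app (op U) (tmulSec A B U s t) =
      tmulSec A' B U ((DCoh.toP.map a).app (op U) s) t :=
  congrArg (fun k => k.app (op U) (tsec _ _ U s t)) (sheafUnit_natural (DCoh.toP.map a ▷ DCoh.toP.obj B))

/-- The unit law on products of sections. -/
theorem tensorUnitLeftIso_tmulSec (M : Z.Modules) (U : Z.Opens) (r : Γ(Z, U))
    (t : (DCoh.toP.obj M).obj (op U)) :
    (DCoh.toP.map (tensorUnitLeftIso M).hom).app (op U) (tmulSec (Coh.structureModule Z) M U r t) =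
      (r : Z.presheaf.obj (op U)) • t := by
  let adj := PresheafOfModules.sheafificationAdjunction (R := Z.ringCatSheaf) (𝟙 Z.ringCatSheaf.obj)
  let l : DCoh.toP.obj (Coh.structureModule Z) ⊗ DCoh.toP.obj M ≅ DCoh.toP.obj M := λ_ (DCoh.toP.obj M)
  have h1 : sheafUnit (DCoh.toP.obj (Coh.structureModule Z) ⊗ DCoh.toP.obj M) ≫
      DCoh.toP.map (tensorUnitLeftIso M).hom = l.hom := by
    show _ ≫ DCoh.toP.map (DCoh.shP.map l.hom ≫ adj.counit.app M) = _
    rw [Functor.map_comp, ← Category.assoc, sheafUnit_natural, Category.assoc]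
    exact (congrArg (l.hom ≫ ·) (adj.right_triangle_components M)).trans (Category.comp_id _)
  exact congrArg (fun k => k.app (op U) (tsec _ _ U r t)) h1

end Gen

variable {X Y : Scheme.{u}} (f : X ⟶ Y)

/-- `E ↦ (G ↦ f^* E ⊗ G)`. -/
noncomputable abbrev pullTensor (E : Y.Modules) : X.Modules ⥤ X.Modules :=
  (DCoh.tensorBi (X := X)).obj ((Scheme.Modules.pullback f).obj E)

/-- The projection map, on presheaves. -/
noncomputable def projPre (E : Y.Modules) (G : X.Modules) :
    DCoh.toP.obj E ⊗ DCoh.toP.obj ((Scheme.Modules.pushforward f).obj G) ⟶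
      DCoh.toP.obj ((Scheme.Modules.pushforward f).obj ((pullTensor f E).obj G)) :=
  (DCoh.toP.map ((Scheme.Modules.pullbackPushforwardAdjunction f).unit.app E) ▷ _) ≫ muPre f _ _

/-- The projection map. -/
noncomputable def projHom (E : Y.Modules) (G : X.Modules) :
    ((DCoh.tensorBi (X := Y)).obj E).obj ((Scheme.Modules.pushforward f).obj G) ⟶
      (Scheme.Modules.pushforward f).obj ((pullTensor f E).obj G) :=
  shDesc (projPre f E G)

theorem projHom_tmulSec (E : Y.Modules) (G : X.Modules) (U : Y.Opens) (e : (DCoh.toP.obj E).obj (op U))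
    (g : (DCoh.toP.obj G).obj (op (f ⁻¹ᵁ U))) :
    (DCoh.toP.map (projHom f E G)).app (op U) (tmulSec E ((Scheme.Modules.pushforward f).obj G) U e g) =
      tmulSec ((Scheme.Modules.pullback f).obj E) G (f ⁻¹ᵁ U) (pullSec f E U e) g :=
  congrArg (fun k => k.app (op U) (tsec _ _ U e g)) (sheafUnit_shDesc (projPre f E G))

/-- The projection map, as a natural transformation. -/
noncomputable def projNat (E : Y.Modules) :
    Scheme.Modules.pushforward f ⋙ (DCoh.tensorBi (X := Y)).obj E ⟶ pullTensor f E ⋙ Scheme.Modules.pushforward f where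
  app := projHom f E
  naturality {G G'} b := hom_ext_tmul fun U e g => by
    change (DCoh.toP.map (projHom f E G')).app (op U)
        ((DCoh.toP.map (((DCoh.tensorBi (X := Y)).obj E).map ((Scheme.Modules.pushforward f).map b))).app (op U)
          (tmulSec E _ U e g)) =
      (DCoh.toP.map ((pullTensor f E).map b)).app (op (f ⁻¹ᵁ U))
        ((DCoh.toP.map (projHom f E G)).app (op U) (tmulSec E _ U e g))
    refine (congrArg _ (map_right_tmulSec E ((Scheme.Modules.pushforward f).map b) U e g)).trans ?_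
    refine (projHom_tmulSec f E G' U e _).trans ?_
    refine Eq.trans ?_ (congrArg _ (projHom_tmulSec f E G U e g).symm)
    exact (map_right_tmulSec _ b (f ⁻¹ᵁ U) _ g).symm

theorem projHom_natural {E E' : Y.Modules} (a : E ⟶ E') (G : X.Modules) :
    ((DCoh.tensorBi (X := Y)).map a).app ((Scheme.Modules.pushforward f).obj G) ≫ projHom f E' G =
      projHom f E G ≫ (Scheme.Modules.pushforward f).map
        (((DCoh.tensorBi (X := X)).map ((Scheme.Modules.pullback f).map a)).app G) :=
  hom_ext_tmul fun U e g => by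
    change (DCoh.toP.map (projHom f E' G)).app (op U)
        ((DCoh.toP.map (((DCoh.tensorBi (X := Y)).map a).app _)).app (op U) (tmulSec E _ U e g)) =
      (DCoh.toP.map (((DCoh.tensorBi (X := X)).map ((Scheme.Modules.pullback f).map a)).app G)).app (op (f ⁻¹ᵁ U))
        ((DCoh.toP.map (projHom f E G)).app (op U) (tmulSec E _ U e g))
    refine (congrArg _ (map_left_tmulSec a _ U e g)).trans ?_
    refine (projHom_tmulSec f E' G U _ g).trans ?_
    refine Eq.trans ?_ (congrArg _ (projHom_tmulSec f E G U e g).symm)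
    refine Eq.trans ?_ (map_left_tmulSec _ G (f ⁻¹ᵁ U) _ g).symm
    exact congrArg (fun s => tmulSec _ G (f ⁻¹ᵁ U) s g) (pullSec_natural f a U e)

theorem pullUnitIso_pullSec (U : Y.Opens) (r : Γ(Y, U)) :
    (DCoh.toP.map (pullUnitIso f).hom).app (op (f ⁻¹ᵁ U)) (pullSec f (Coh.structureModule Y) U r) =
      f.app U r := by
  have : (SheafOfModules.pushforward.{u} f.toRingCatSheafHom).IsRightAdjoint :=
    (Scheme.Modules.pullbackPushforwardAdjunction f).isRightAdjoint
  have h := (((Scheme.Modules.pullbackPushforwardAdjunction f).homEquiv_unit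
    (Coh.structureModule Y) (Coh.structureModule X) (pullUnitIso f).hom).symm).trans
    (Equiv.apply_symm_apply _ (SheafOfModules.unitToPushforwardObjUnit f.toRingCatSheafHom))
  exact congrArg (fun k : Coh.structureModule Y ⟶ (Scheme.Modules.pushforward f).obj (Coh.structureModule X) =>
    (DCoh.toP.map k).app (op U) r) h

theorem isIso_projHom_structureModule (G : X.Modules) : IsIso (projHom f (Coh.structureModule Y) G) := by
  let e := (Scheme.Modules.pushforward f).mapIso
    (((DCoh.tensorBi (X := X)).mapIso (pullUnitIso f)).app G ≪≫ tensorUnitLeftIso G)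
  have h : projHom f (Coh.structureModule Y) G ≫ e.hom =
      (tensorUnitLeftIso ((Scheme.Modules.pushforward f).obj G)).hom := hom_ext_tmul fun U r g => by
    change (DCoh.toP.map (tensorUnitLeftIso G).hom).app (op (f ⁻¹ᵁ U))
        ((DCoh.toP.map (((DCoh.tensorBi (X := X)).map (pullUnitIso f).hom).app G)).app (op (f ⁻¹ᵁ U))
          ((DCoh.toP.map (projHom f (Coh.structureModule Y) G)).app (op U)
            (tmulSec (Coh.structureModule Y) _ U r g))) = _
    refine (congrArg (fun z => (DCoh.toP.map (tensorUnitLeftIso G).hom).app (op (f ⁻¹ᵁ U))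
      ((DCoh.toP.map (((DCoh.tensorBi (X := X)).map (pullUnitIso f).hom).app G)).app (op (f ⁻¹ᵁ U)) z))
      (projHom_tmulSec f _ G U r g)).trans ?_
    refine (congrArg _ (map_left_tmulSec _ G (f ⁻¹ᵁ U) _ g)).trans ?_
    refine (congrArg (fun s => (DCoh.toP.map (tensorUnitLeftIso G).hom).app (op (f ⁻¹ᵁ U))
      (tmulSec (Coh.structureModule X) G (f ⁻¹ᵁ U) s g)) (pullUnitIso_pullSec f U r)).trans ?_
    exact (tensorUnitLeftIso_tmulSec G (f ⁻¹ᵁ U) (f.app U r) g).trans
      (tensorUnitLeftIso_tmulSec ((Scheme.Modules.pushforward f).obj G) U r g).symm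
  have : IsIso (projHom f (Coh.structureModule Y) G ≫ e.hom) := by rw [h]; infer_instance
  exact IsIso.of_isIso_comp_right _ e.hom

end GrothLib.ProjFormula
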